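import Mathlib
import Cfsg.Prelude.Def_PLocal
import Cfsg.Agent.Lib.Helper51.PGroup

/-!
Thompson's replacement theorem for abelian subgroups of maximal order.
-/

set_option autoImplicit false

namespace Cfsg.Agent.Lib.Helper51

open Subgroup
open scoped commutatorElement

variable {P : Type*} [Group P]

theorem mem_maxAbelian_iff {A : Subgroup P} : A ∈ Cfsg.maxAbelianSubgroups P ↔
    A ≤ centralizer (A : Set P) ∧ ∀ B : Subgroup P, B ≤ centralizer (B : Set P) → Nat.card B ≤ Nat.card A := by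
  unfold Cfsg.maxAbelianSubgroups
  simp only [Set.mem_ofPred_eq, le_centralizer_iff_isMulCommutative]

theorem exists_mem_maxAbelian [Finite P] : ∃ A : Subgroup P, A ∈ Cfsg.maxAbelianSubgroups P := by
  have hfin : {B : Subgroup P | B ≤ centralizer (B : Set P)}.Finite := Set.toFinite _
  obtain ⟨A, hA, hmax⟩ := Set.exists_max_image _ (fun B : Subgroup P => Nat.card B) hfin
    ⟨⊥, (bot_le : (⊥ : Subgroup P) ≤ centralizer ((⊥ : Subgroup P) : Set P))⟩
  exact ⟨A, mem_maxAbelian_iff.mpr ⟨hA, hmax⟩⟩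

/-- An abelian subgroup centralizing a member of `𝒜(P)` lies in it. -/
theorem le_of_le_centralizer_maxAbelian [Finite P] {A D : Subgroup P} (hA : A ∈ Cfsg.maxAbelianSubgroups P)
    (hD : D ≤ centralizer (D : Set P)) (hDA : D ≤ centralizer (A : Set P)) : D ≤ A := by
  rw [mem_maxAbelian_iff] at hA
  have hab : A ⊔ D ≤ centralizer ((A ⊔ D : Subgroup P) : Set P) := by
    rw [centralizer_sup_eq]
    exact sup_le (le_inf hA.1 (le_centralizer_iff.mp hDA)) (le_inf hDA hD)
  have h := hA.2 _ hab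
  have : A = A ⊔ D := eq_of_le_of_card_ge le_sup_left h
  rw [this]; exact le_sup_right

theorem card_map_conj (A : Subgroup P) (x : P) :
    Nat.card ↥(A.map (MulAut.conj x).toMonoidHom) = Nat.card A :=
  Nat.card_congr ((MulAut.conj x).subgroupMap A).symm.toEquiv

/-- The counting core of Thompson's replacement theorem. -/
theorem replacement_core [Finite P] {A : Subgroup P} (hA : A ∈ Cfsg.maxAbelianSubgroups P) (x : P)
    (h1 : A.map (MulAut.conj x).toMonoidHom ≤ normalizer (A : Set P))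
    (hne : A.map (MulAut.conj x).toMonoidHom ≠ A)
    (B : Subgroup P) (hB : B ≤ centralizer (B : Set P)) (hxB : ∀ a ∈ A, x * a * x⁻¹ * a⁻¹ ∈ B) :
    ∃ Astar ∈ Cfsg.maxAbelianSubgroups P, A ⊓ B < Astar ⊓ B ∧
      Astar ≤ A ⊔ A.map (MulAut.conj x).toMonoidHom := by
  rw [mem_maxAbelian_iff] at hA
  obtain ⟨hAc, hAmax⟩ := hA
  set A' := A.map (MulAut.conj x).toMonoidHom with hA'
  set K := A ⊔ A' with hK
  set Z := A ⊓ A' with hZ
  set E := K ⊓ B with hE
  have hA'c : A' ≤ centralizer (A' : Set P) := by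
    rw [hA', centralizer_map_equiv]
    exact Subgroup.map_mono hAc
  have hZK : Z ≤ centralizer (K : Set P) := by
    rw [hK, centralizer_sup_eq]
    exact le_inf (inf_le_left.trans hAc) (inf_le_right.trans hA'c)
  have hZleK : Z ≤ K := inf_le_left.trans le_sup_left
  have hEc : E ≤ centralizer (E : Set P) :=
    (inf_le_right.trans hB).trans (centralizer_le (by exact_mod_cast (inf_le_right : E ≤ B)))
  have hZE : Z ≤ centralizer (E : Set P) :=
    hZK.trans (centralizer_le (by exact_mod_cast (inf_le_left : E ≤ K)))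
  have hZZ : Z ≤ centralizer (Z : Set P) := hZK.trans (centralizer_le (by exact_mod_cast hZleK))
  have hab : E ⊔ Z ≤ centralizer ((E ⊔ Z : Subgroup P) : Set P) := by
    rw [centralizer_sup_eq]
    exact sup_le (le_inf hEc (le_centralizer_iff.mp hZE)) (le_inf hZE hZZ)
  have hKAE : E ⊔ A = K := by
    apply le_antisymm (sup_le inf_le_left le_sup_left)
    refine sup_le le_sup_right ?_
    rintro _ ⟨a, ha, rfl⟩
    have h2 : (MulAut.conj x).toMonoidHom a = (x * a * x⁻¹ * a⁻¹) * a := by
      simp [MulAut.conj_apply]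
    rw [h2]
    have h3 : x * a * x⁻¹ * a⁻¹ ∈ K :=
      K.mul_mem (mem_sup_right ⟨a, ha, by simp [MulAut.conj_apply]⟩) (K.inv_mem (mem_sup_left ha))
    exact mul_mem (mem_sup_left (mem_inf.mpr ⟨h3, hxB a ha⟩)) (mem_sup_right ha)
  have hKN : K ≤ normalizer (A : Set P) := sup_le le_normalizer h1
  have c1 := card_mul_card_le E Z
  have c2 := card_sup_mul_card_inf_of_le_normalizer E A (inf_le_left.trans hKN)
  rw [hKAE] at c2
  have c3 := card_mul_card_le A A'
  have c4 : Nat.card A' = Nat.card A := card_map_conj A x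
  rw [c4] at c3
  have c5 : Nat.card ↥(E ⊓ Z) ≤ Nat.card ↥(E ⊓ A) := card_le_of_le (inf_le_inf_left _ inf_le_left)
  have hcard : Nat.card A ≤ Nat.card ↥(E ⊔ Z) := by
    have hpos : 0 < Nat.card ↥(E ⊓ Z) * Nat.card A * Nat.card Z :=
      Nat.mul_pos (Nat.mul_pos Nat.card_pos Nat.card_pos) Nat.card_pos
    apply Nat.le_of_mul_le_mul_left _ hpos
    calc Nat.card ↥(E ⊓ Z) * Nat.card A * Nat.card Z * Nat.card A
        = (Nat.card A * Nat.card A) * Nat.card ↥(E ⊓ Z) * Nat.card Z := by ring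
      _ ≤ (Nat.card K * Nat.card Z) * Nat.card ↥(E ⊓ A) * Nat.card Z := by gcongr
      _ = (Nat.card K * Nat.card ↥(E ⊓ A)) * Nat.card Z * Nat.card Z := by ring
      _ = (Nat.card E * Nat.card A) * Nat.card Z * Nat.card Z := by rw [c2]
      _ = (Nat.card E * Nat.card Z) * Nat.card A * Nat.card Z := by ring
      _ ≤ (Nat.card ↥(E ⊔ Z) * Nat.card ↥(E ⊓ Z)) * Nat.card A * Nat.card Z := by gcongr
      _ = _ := by ring
  refine ⟨E ⊔ Z, mem_maxAbelian_iff.mpr ⟨hab, fun B' hB' => (hAmax B' hB').trans hcard⟩, ?_,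
    sup_le inf_le_left hZleK⟩
  have hle : A ⊓ B ≤ (E ⊔ Z) ⊓ B :=
    le_inf ((inf_le_inf_right B le_sup_left).trans le_sup_left) inf_le_right
  refine lt_of_le_of_ne hle ?_
  intro heq
  apply hne
  have hEA : E ≤ A := by
    have : E ≤ (E ⊔ Z) ⊓ B := le_inf le_sup_left inf_le_right
    rw [← heq] at this
    exact this.trans inf_le_left
  have hKA : K = A := by rw [← hKAE]; exact sup_eq_right.mpr hEA
  have hA'A : A' ≤ A := by rw [← hKA]; exact le_sup_right
  exact eq_of_le_of_card_ge hA'A c4.ge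

/-- If `A` normalizes `D` but `D` does not normalize `A` (in a finite nilpotent group), some `x ∈ D` outside `N(A)`
conjugates `A` into `N(A)`. -/
theorem exists_conj_le_normalizer [Finite P] [Group.IsNilpotent P] (A D : Subgroup P)
    (hAD : A ≤ normalizer (D : Set P)) (hDA : ¬ D ≤ normalizer (A : Set P)) :
    ∃ x ∈ D, x ∉ normalizer (A : Set P) ∧ ∀ a ∈ A, x * a * x⁻¹ ∈ normalizer (A : Set P) := by
  by_contra hcon
  push Not at hcon
  apply hDA
  have key : ∀ n : ℕ, ∀ U : Subgroup P, Nat.card U = n → U ≤ D → A ≤ normalizer (U : Set P) →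
      U ≤ normalizer (A : Set P) := by
    intro n
    induction n using Nat.strong_induction_on with
    | _ n ih =>
      intro U hUn hUD hAU
      by_cases hU : U = ⊥
      · rw [hU]; exact bot_le
      have hlt : Nat.card ↥⁅U, A⁆ < n := hUn ▸ card_commutator_lt U A hU hAU
      have hle : ⁅U, A⁆ ≤ U := by
        rw [commutator_le]
        intro u hu a ha
        have : a * u⁻¹ * a⁻¹ ∈ U := (le_normalizer_iff.mp hAU) a ha _ (U.inv_mem hu)
        have h2 : ⁅u, a⁆ = u * (a * u⁻¹ * a⁻¹) := by simp [commutatorElement_def, mul_assoc]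
        rw [h2]; exact U.mul_mem hu this
      have hnorm : A ≤ normalizer ((⁅U, A⁆ : Subgroup P) : Set P) := by
        intro a ha
        rw [mem_normalizer_iff_map_conj_eq, map_commutator, mem_normalizer_iff_map_conj_eq.mp (hAU ha),
          mem_normalizer_iff_map_conj_eq.mp (le_normalizer ha)]
      have hU' : ⁅U, A⁆ ≤ normalizer (A : Set P) := ih _ hlt _ rfl (hle.trans hUD) hnorm
      intro x hx
      by_contra hxN
      obtain ⟨a, ha, hax⟩ := hcon x (hUD hx) hxN
      apply hax
      have h3 : x * a * x⁻¹ = ⁅x, a⁆ * a := by simp [commutatorElement_def]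
      rw [h3]
      exact mul_mem (hU' (commutator_mem_commutator hx ha)) (le_normalizer ha)
  exact key _ D rfl le_rfl hAD

/-- **Thompson's replacement theorem** (in a finite nilpotent group). -/
theorem thompson_replacement [Finite P] [Group.IsNilpotent P] {A : Subgroup P}
    (hA : A ∈ Cfsg.maxAbelianSubgroups P) (B : Subgroup P) (hB : B ≤ centralizer (B : Set P))
    (hAB : A ≤ normalizer (B : Set P)) (hBA : ¬ B ≤ normalizer (A : Set P)) :
    ∃ Astar ∈ Cfsg.maxAbelianSubgroups P, A ⊓ B < Astar ⊓ B ∧ Astar ≤ normalizer (A : Set P) ∧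
      Astar ≤ normalClosure (A : Set P) := by
  obtain ⟨x, hxB, hxN, hx⟩ := exists_conj_le_normalizer A B hAB hBA
  have h1 : A.map (MulAut.conj x).toMonoidHom ≤ normalizer (A : Set P) := by
    rintro _ ⟨a, ha, rfl⟩
    simpa [MulAut.conj_apply] using hx a ha
  have hne : A.map (MulAut.conj x).toMonoidHom ≠ A := fun h => hxN (mem_normalizer_iff_map_conj_eq.mpr h)
  obtain ⟨Astar, h2, h3, h4⟩ := replacement_core hA x h1 hne B hB (by
    intro a ha
    have : a * x⁻¹ * a⁻¹ ∈ B := (le_normalizer_iff.mp hAB) a ha _ (inv_mem hxB)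
    have e : x * a * x⁻¹ * a⁻¹ = x * (a * x⁻¹ * a⁻¹) := by group
    rw [e]; exact mul_mem hxB this)
  refine ⟨Astar, h2, h3, h4.trans (sup_le le_normalizer h1), h4.trans (sup_le le_normalClosure ?_)⟩
  rintro _ ⟨a, ha, rfl⟩
  simp only [MulEquiv.coe_toMonoidHom, MulAut.conj_apply]
  exact normalClosure_normal.conj_mem a (le_normalClosure ha) x

end Cfsg.Agent.Lib.Helper51
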