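/-
helper51 for helper85's farm (S5165): piece P4b.
-/
import Cfsg.Agent.Lib.Helper51.AltP4a

set_option autoImplicit false
set_option linter.unusedSectionVars false

namespace Cfsg.Agent.Lib.Helper51.AltP4b

open Equiv Equiv.Perm Cfsg.Agent.Lib.Helper85.AltM Cfsg.Agent.Lib.Helper51.AltP4a

variable {p : ℕ} [Fact p.Prime] {κ ε : Type} [Fintype κ] [DecidableEq κ] [Fintype ε] [DecidableEq ε]

/-- diagonal elements as a homomorphism -/
def mlH (p : ℕ) [Fact p.Prime] (κ ε : Type) [Fintype κ] [DecidableEq κ] [Fintype ε]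
    [DecidableEq ε] : (Idx p κ → (ZMod p)ˣ) →* Perm (M p κ ε) :=
  (J ε).comp (MonoidHom.mk' ml ml_mul)

theorem mlH_apply (l : Idx p κ → (ZMod p)ˣ) : mlH p κ ε l = J ε (ml l) := rfl

theorem exists_third {α : Type*} [Fintype α] [DecidableEq α] (h3 : 3 ≤ Fintype.card α) (i j : α) :
    ∃ k, k ≠ i ∧ k ≠ j := by
  by_contra h
  push Not at h
  have hsub : (Finset.univ : Finset α) ⊆ {i, j} := by
    intro k _
    by_cases hk : k = i
    · simp [hk]
    · simp [h k hk]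
  have h1 := Finset.card_le_card hsub
  have h2 : ({i, j} : Finset α).card ≤ 2 := Finset.card_le_two
  rw [Finset.card_univ] at h1
  omega

theorem mulSingle_comp_inv (σ : Perm (Idx p κ)) (i : Idx p κ) (a : (ZMod p)ˣ) :
    (fun x => (Pi.mulSingle i a : Idx p κ → (ZMod p)ˣ) (σ⁻¹ x)) = Pi.mulSingle (σ i) a := by
  funext x
  by_cases hx : x = σ i
  · subst hx; simp
  · have : σ⁻¹ x ≠ i := fun h => hx (Equiv.Perm.inv_eq_iff_eq.1 h)
    rw [Pi.mulSingle_eq_of_ne this, Pi.mulSingle_eq_of_ne hx]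

/-- [P4b] -/
theorem gen_odd_ml (h3 : 3 ≤ Fintype.card (Idx p κ))
    (hbl : ∀ σ : Perm (Idx p κ), sign σ = 1 → J ε (bl σ) ∈ Subgroup.closure {y : Perm (M p κ ε) |
      y ∈ Subgroup.normalizer (Ahat p κ ε : Set (Perm (M p κ ε))) ∧ ∃ k : ℕ, y ^ p ^ k = 1})
    (l : Idx p κ → (ZMod p)ˣ) (hl : ∏ i, l i = 1) :
    J ε (ml l) ∈ Subgroup.closure {y : Perm (M p κ ε) |
      y ∈ Subgroup.normalizer (Ahat p κ ε : Set (Perm (M p κ ε))) ∧ ∃ k : ℕ, y ^ p ^ k = 1} := by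
  set C := Subgroup.closure {y : Perm (M p κ ε) |
      y ∈ Subgroup.normalizer (Ahat p κ ε : Set (Perm (M p κ ε))) ∧ ∃ k : ℕ, y ^ p ^ k = 1} with hC
  set K : Subgroup (Idx p κ → (ZMod p)ˣ) := C.comap (mlH p κ ε) with hK
  have hpair : ∀ (i j : Idx p κ) (a : (ZMod p)ˣ), i ≠ j →
      (Pi.mulSingle i a * (Pi.mulSingle j a)⁻¹ : Idx p κ → (ZMod p)ˣ) ∈ K := by
    intro i j a hij
    obtain ⟨k, hki, hkj⟩ := exists_third h3 i j
    set σ : Perm (Idx p κ) := swap i j * swap j k with hσ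
    have hsign : sign σ = 1 := by
      rw [hσ, Perm.sign_mul, sign_swap hij, sign_swap (Ne.symm hkj)]; rfl
    have hσi : σ i = j := by
      rw [hσ, Perm.mul_apply, swap_apply_of_ne_of_ne hij (Ne.symm hki), swap_apply_left]
    have h1 : J ε (ml (Pi.mulSingle i a)) * J ε (bl σ) * (J ε (ml (Pi.mulSingle i a)))⁻¹ ∈ C :=
      conj_mem_gen _ (J_ml_mem_normalizer _) (hbl σ hsign)
    have h2 := mul_mem h1 (inv_mem (hbl σ hsign))
    show J ε (ml (Pi.mulSingle i a * (Pi.mulSingle j a)⁻¹)) ∈ C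
    have h3' : J ε (ml (Pi.mulSingle i a * (Pi.mulSingle j a)⁻¹))
        = J ε (ml (Pi.mulSingle i a)) * J ε (bl σ) * (J ε (ml (Pi.mulSingle i a)))⁻¹
          * (J ε (bl σ))⁻¹ := by
      rw [← map_inv, ← map_inv, ← map_mul, ← map_mul, ← map_mul]
      congr 1
      have h4 := bl_conj_ml σ (Pi.mulSingle i a)
      rw [mulSingle_comp_inv, hσi] at h4
      rw [ml_mul, ml_inv, ← h4]
      group
    rw [h3']
    exact h2
  have hdecomp : l = ∏ i, (Pi.mulSingle i (l i) * (Pi.mulSingle (Sum.inl 0) (l i))⁻¹ :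
      Idx p κ → (ZMod p)ˣ) := by
    rw [Finset.prod_mul_distrib, Finset.univ_prod_mulSingle, Finset.prod_inv_distrib]
    have h5 : ∏ i, (Pi.mulSingle (Sum.inl 0) (l i) : Idx p κ → (ZMod p)ˣ)
        = Pi.mulSingle (Sum.inl 0) (∏ i, l i) :=
      (map_prod (MonoidHom.mulSingle (fun _ : Idx p κ => (ZMod p)ˣ) (Sum.inl 0)) l
        Finset.univ).symm
    rw [h5, hl, Pi.mulSingle_one, inv_one, mul_one]
  have hmem : l ∈ K := by
    rw [hdecomp]
    apply Subgroup.prod_mem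
    intro i _
    by_cases hi : i = Sum.inl 0
    · rw [hi, mul_inv_cancel]; exact one_mem _
    · exact hpair i _ _ hi
  exact hmem

end Cfsg.Agent.Lib.Helper51.AltP4b
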