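import Mathlib
import Cfsg.Prelude.Def_TwoFusion
import Cfsg.Agent.Lib.Lead.Functor
import Cfsg.Agent.Lib.Helper1.Nilpotent
import Cfsg.Agent.Lib.Helper51.SylowSub
import Cfsg.Agent.Lib.Helper51.ZJD

/-!
The generic Thompson-type reduction of `Cfsg.Agent.Lib.Lead.hasNormalPComplement_of_functors`, adapted to a
functor evaluated at a strongly closed subgroup `D` of a Sylow subgroup.
-/

set_option autoImplicit false

universe u

namespace Cfsg.Agent.Lib.Helper51

open Cfsg Cfsg.Agent.Lib.Lead

section sc

variable {X : Type*} [Group X]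

theorem stronglyClosed_comap {M : Type*} [Group M] (f : M →* X) {D S : Subgroup X}
    (h : IsStronglyClosed D S) : IsStronglyClosed (D.comap f) (S.comap f) := by
  refine ⟨Subgroup.comap_mono h.1, ?_⟩
  intro x hx g hg
  rw [Subgroup.mem_comap] at hx hg ⊢
  rw [map_mul, map_mul, map_inv] at hg ⊢
  exact h.2 _ hx _ hg

/-- strongly closed subgroups pass to quotients by normal subgroups contained in `S` -/
theorem stronglyClosed_map_of_ker_le {Y : Type*} [Group Y] (π : X →* Y) (hπ : Function.Surjective π)
    {D S : Subgroup X} (h : IsStronglyClosed D S) (hker : π.ker ≤ S) :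
    IsStronglyClosed (D.map π) (S.map π) := by
  refine ⟨Subgroup.map_mono h.1, ?_⟩
  rintro _ ⟨d, hd, rfl⟩ gb hg
  obtain ⟨g, rfl⟩ := hπ gb
  obtain ⟨s, hs, hsg⟩ := hg
  have h1 : s⁻¹ * (g * d * g⁻¹) ∈ π.ker := by
    rw [MonoidHom.mem_ker, map_mul, map_inv, hsg]
    simp only [map_mul, map_inv]
    group
  have h2 : g * d * g⁻¹ ∈ S := by
    have := S.mul_mem hs (hker h1)
    rwa [mul_inv_cancel_left] at this
  exact ⟨g * d * g⁻¹, h.2 d hd g h2, by simp⟩

/-- strongly closed subgroups of a Sylow subgroup pass to arbitrary quotients -/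
theorem stronglyClosed_map_sylow [Finite X] {p : ℕ} [Fact p.Prime] {Y : Type*} [Group Y] (π : X →* Y)
    (hπ : Function.Surjective π) (S : Sylow p X) {D : Subgroup X} (h : IsStronglyClosed D (S : Subgroup X)) :
    IsStronglyClosed (D.map π) ((S : Subgroup X).map π) := by
  refine ⟨Subgroup.map_mono h.1, ?_⟩
  rintro _ ⟨d, hd, rfl⟩ gb hg
  obtain ⟨g, rfl⟩ := hπ gb
  have hmem : g * d * g⁻¹ ∈ ((S : Subgroup X).map π).comap π := by
    rw [Subgroup.mem_comap]; simpa using hg
  have hpg : IsPGroup p (Subgroup.zpowers (g * d * g⁻¹)) := by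
    have h1 : IsPGroup p (Subgroup.zpowers d) := S.2.to_le (Subgroup.zpowers_le.2 (h.1 hd))
    have h2 := h1.map (MulAut.conj g).toMonoidHom
    rw [MonoidHom.map_zpowers] at h2
    exact h2
  obtain ⟨y, hy, hyS⟩ := exists_mem_conj_mem_sylow S (((S : Subgroup X).map π).comap π)
    (Subgroup.zpowers (g * d * g⁻¹)) (Subgroup.le_comap_map _ _) hpg (Subgroup.zpowers_le.2 hmem)
  have h1 := hyS _ (Subgroup.mem_zpowers _)
  have e1 : y * (g * d * g⁻¹) * y⁻¹ = (y * g) * d * (y * g)⁻¹ := by group
  rw [e1] at h1
  have h2 := h.2 d hd _ h1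
  -- conjugate back by an element of `S`
  obtain ⟨s, hs, hsy⟩ := hy
  have h3 : s⁻¹ * ((y * g) * d * (y * g)⁻¹) * s⁻¹⁻¹ ∈ D :=
    h.2 _ h2 s⁻¹ (mul_mem (mul_mem (inv_mem hs) h1) (inv_mem (inv_mem hs)))
  refine ⟨_, h3, ?_⟩
  simp only [map_mul, map_inv, hsy]
  group

theorem stronglyClosed_normal_of_le_normal {D S H : Subgroup X} (h : IsStronglyClosed D S) [hH : H.Normal]
    (hDH : D ≤ H) (hHS : H ≤ S) : D.Normal :=
  ⟨fun d hd g => h.2 d hd g (hHS (hH.conj_mem d (hDH hd) g))⟩

end sc

variable {p : ℕ}

theorem hasNormalPComplement_of_stronglyClosed_aux [Fact p.Prime]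
    (W : ∀ (Q : Type u) [Group Q], Subgroup Q) (hW : IsCharPFunctor p W)
    (hGood : ∀ (Y : Type u) [Group Y] [Finite Y], ∀ T : Sylow p Y, FinalConfig p Y T →
        ∀ D : Subgroup Y, IsStronglyClosed D (T : Subgroup Y) → (inducedFunctor W D).Normal) (n : ℕ) :
    ∀ (X : Type u) [Group X] [Finite X], Nat.card X = n →
      ∀ (S : Sylow p X) (D : Subgroup X), IsStronglyClosed D (S : Subgroup X) →
        HasNormalPComplement p (Subgroup.normalizer (inducedFunctor W D : Set X)) →
      HasNormalPComplement p X := by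
  induction n using Nat.strong_induction_on with
  | _ n IH =>
  intro X _ _ hcard S D hD hS
  have hp : p.Prime := Fact.out
  by_contra hX
  have hDp : IsPGroup p D := S.2.to_le hD.1
  have hDne : D ≠ ⊥ := by
    rintro rfl
    apply hX
    have h1 : inducedFunctor W (⊥ : Subgroup X) = ⊥ := le_bot_iff.mp (inducedFunctor_le _)
    rw [h1] at hS
    have h2 : Subgroup.normalizer ((⊥ : Subgroup X) : Set X) = ⊤ :=
      Subgroup.normalizer_eq_top_iff.mpr inferInstance
    rw [h2] at hS
    exact HasNormalPComplement.of_top hS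
  -- (O) proper overgroups of `S` have normal `p`-complements
  have hO : ∀ M : Subgroup X, (S : Subgroup X) ≤ M → M ≠ ⊤ → HasNormalPComplement p M := by
    intro M hSM hM
    have hlt : Nat.card M < n := hcard ▸ card_lt_of_ne_top hM
    refine IH (Nat.card M) hlt M rfl (S.subtype hSM) (D.subgroupOf M) ?_ ?_
    · rw [Sylow.coe_subtype]
      exact stronglyClosed_comap M.subtype hD
    · apply hasNormalPComplement_normalizer_of_map M.subtype M.subtype_injective
      have hDMp : IsPGroup p (D.subgroupOf M) := hDp.comap_subtype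
      rw [← inducedFunctor_map hW M.subtype (D.subgroupOf M) hDMp (by
        intro x _ hx
        exact M.subtype_injective (by simpa using hx)), Subgroup.subgroupOf_map_subtype,
        inf_eq_left.mpr (hD.1.trans hSM)]
      exact hS
  -- Frobenius: a bad local subgroup
  have hloc : ∃ R : Subgroup X, IsPGroup p R ∧ R ≠ ⊥ ∧
      ¬ HasNormalPComplement p (Subgroup.normalizer (R : Set X)) := by
    by_contra hcon
    push Not at hcon
    exact hX (frobHyp_of_local hcon).hasNormalPComplement
  let 𝓡 : Set (Subgroup X) := {R | IsPGroup p R ∧ R ≠ ⊥ ∧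
      ¬ HasNormalPComplement p (Subgroup.normalizer (R : Set X))}
  obtain ⟨R, hR, hRmax⟩ := Set.exists_max_image 𝓡
    (fun R => (Nat.card (Subgroup.normalizer (R : Set X))).factorization p) (Set.toFinite _) hloc
  have hRtop : Subgroup.normalizer (R : Set X) = ⊤ := by
    by_contra hne
    set N := Subgroup.normalizer (R : Set X) with hN
    obtain ⟨P1⟩ : Nonempty (Sylow p N) := inferInstance
    have hlt : Nat.card N < n := hcard ▸ card_lt_of_ne_top hne
    set P1' : Subgroup X := (P1 : Subgroup N).map N.subtype with hP1'def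
    have hP1' : IsPGroup p P1' := P1.2.map _
    obtain ⟨S', hS'⟩ := hP1'.exists_le_sylow
    -- transport `D` to `S'`
    obtain ⟨g, hg⟩ := MulAction.exists_smul_eq X S' S
    have hSS' : (S : Subgroup X) = (S' : Subgroup X).map (MulAut.conj g).toMonoidHom := by
      rw [← hg, Sylow.coe_subgroup_smul]; rfl
    set D' : Subgroup X := D.comap (MulAut.conj g).toMonoidHom with hD'def
    have hD' : IsStronglyClosed D' (S' : Subgroup X) := by
      have h1 := stronglyClosed_comap (MulAut.conj g).toMonoidHom hD
      rwa [hSS', Subgroup.comap_map_eq_self_of_injective (MulAut.conj g).injective] at h1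
    have hD'map : D'.map (MulAut.conj g).toMonoidHom = D :=
      Subgroup.map_comap_eq_self_of_surjective (MulAut.conj g).surjective D
    have hD'p : IsPGroup p D' := S'.2.to_le hD'.1
    have hD'ne : D' ≠ ⊥ := by
      intro h
      rw [h, Subgroup.map_bot] at hD'map
      exact hDne hD'map.symm
    have hS'npc : HasNormalPComplement p (Subgroup.normalizer (inducedFunctor W D' : Set X)) := by
      apply hasNormalPComplement_normalizer_of_map (MulAut.conj g).toMonoidHom (MulAut.conj g).injective
      rw [← inducedFunctor_map hW _ _ hD'p (by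
        intro x _ hx
        exact (MulAut.conj g).injective (by simpa using hx)), hD'map]
      exact hS
    -- `P1 = S' ∩ N`
    have hP1eq : (S' : Subgroup X).subgroupOf N = (P1 : Subgroup N) := by
      apply P1.3 (S'.2.comap_subtype)
      intro x hx
      exact Subgroup.mem_subgroupOf.mpr (hS' (Subgroup.mem_map_of_mem _ hx))
    have hP1'eq : P1' = (S' : Subgroup X) ⊓ N := by
      rw [hP1'def, ← hP1eq, Subgroup.subgroupOf_map_subtype]
    set D1 : Subgroup N := D'.subgroupOf N with hD1def
    have hD1 : IsStronglyClosed D1 (P1 : Subgroup N) := by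
      rw [← hP1eq]
      exact stronglyClosed_comap N.subtype hD'
    have hD1p : IsPGroup p D1 := hD'p.comap_subtype
    set D1' : Subgroup X := D' ⊓ N with hD1'def
    have hD1'map : D1.map N.subtype = D1' := Subgroup.subgroupOf_map_subtype _ _
    have hD1'p : IsPGroup p D1' := hD'p.to_le inf_le_left
    have hi : ¬ HasNormalPComplement p (Subgroup.normalizer (inducedFunctor W D1 : Set N)) :=
      fun hcon => hR.2.2 (IH _ hlt N rfl P1 D1 hD1 hcon)
    set R' := inducedFunctor W D1' with hR'def
    have hR'eq : R' = (inducedFunctor W D1).map N.subtype := by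
      rw [hR'def, ← hD1'map]
      exact inducedFunctor_map hW N.subtype D1 hD1p (by
        intro x _ hx
        exact N.subtype_injective (by simpa using hx))
    have hR'npc : ¬ HasNormalPComplement p (Subgroup.normalizer (R' : Set X)) := fun h =>
      hi (hasNormalPComplement_normalizer_of_map N.subtype N.subtype_injective _ (hR'eq ▸ h))
    -- `D1' ≠ ⊥`, through the centre of `S'`
    have hRS' : R ≤ S' := by
      have hRn : (R.subgroupOf N).Normal := Subgroup.normal_in_normalizer
      have hRNp : IsPGroup p (R.subgroupOf N) := hR.1.comap_subtype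
      have h1 : R.subgroupOf N ≤ P1 := hRNp.le_sylow_of_normal P1
      intro r hr
      have h2 : (⟨r, Subgroup.le_normalizer hr⟩ : N) ∈ (P1 : Subgroup N) := h1 (Subgroup.mem_subgroupOf.mpr hr)
      exact hS' (Subgroup.mem_map_of_mem N.subtype h2)
    have hD1'ne : D1' ≠ ⊥ := by
      have hnil : Group.IsNilpotent (S' : Subgroup X) := S'.2.isNilpotent
      have hn : (D'.subgroupOf (S' : Subgroup X)).Normal :=
        (Subgroup.normal_subgroupOf_iff_le_normalizer hD'.1).2 (stronglyClosed_le_normalizer hD')
      have hne' : D'.subgroupOf (S' : Subgroup X) ≠ ⊥ := by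
        intro h
        apply hD'ne
        rw [← inf_eq_left.mpr hD'.1, ← Subgroup.subgroupOf_map_subtype, h, Subgroup.map_bot]
      have h1 := Cfsg.Agent.Lib.Helper1.normal_inf_center_ne_bot hne'
      obtain ⟨⟨z, hz⟩, hz1⟩ := Subgroup.ne_bot_iff_exists_ne_one.1 h1
      intro hbot
      apply hz1
      have hzD : (z : X) ∈ D' := Subgroup.mem_subgroupOf.mp hz.1
      have hzN : (z : X) ∈ N := by
        apply Subgroup.centralizer_le_normalizer
        rw [Subgroup.mem_centralizer_iff]
        intro r hr
        exact congrArg Subtype.val (Subgroup.mem_center_iff.mp hz.2 ⟨r, hRS' hr⟩)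
      have h2 : (z : X) ∈ D1' := ⟨hzD, hzN⟩
      rw [hbot, Subgroup.mem_bot] at h2
      exact Subtype.ext (Subtype.ext h2)
    have hR'mem : R' ∈ 𝓡 :=
      ⟨hD1'p.to_le (inducedFunctor_le _), inducedFunctor_ne_bot hW D1' hD1'p hD1'ne, hR'npc⟩
    have hle := hRmax R' hR'mem
    rcases eq_or_lt_of_le hS' with heq | hlt'
    · apply hR'npc
      have h1 : (S' : Subgroup X) ≤ N := by
        rw [← heq, hP1'eq]; exact inf_le_right
      rw [hR'def, hD1'def, inf_eq_left.mpr (hD'.1.trans h1)]
      exact hS'npc
    · obtain ⟨x, hxS', hxN, hxP⟩ := exists_mem_normalizer_not_mem S'.2 hlt'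
      let B : Subgroup X := (S' : Subgroup X) ⊓ Subgroup.normalizer (P1' : Set X)
      have hB : IsPGroup p B := S'.2.to_le inf_le_left
      have hPB : P1' < B := by
        refine lt_of_le_of_ne (le_inf hS' Subgroup.le_normalizer) ?_
        intro h
        exact hxP (h ▸ (⟨hxS', hxN⟩ : x ∈ B))
      have hD1'eq : D1' = D' ⊓ P1' := by
        rw [hD1'def, hP1'eq, ← inf_assoc, inf_eq_left.mpr hD'.1]
      have hBD : B ≤ Subgroup.normalizer (D1' : Set X) := by
        rw [hD1'eq]
        refine le_trans ?_ Subgroup.inf_normalizer_le_normalizer_inf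
        exact le_inf (inf_le_left.trans (stronglyClosed_le_normalizer hD')) inf_le_right
      have hBR : B ≤ Subgroup.normalizer (R' : Set X) :=
        hBD.trans (normalizer_le_normalizer_inducedFunctor hW D1' hD1'p)
      obtain ⟨b, hb⟩ := IsPGroup.iff_card.mp hB
      have h1 : p ^ b ∣ Nat.card (Subgroup.normalizer (R' : Set X)) := hb ▸ Subgroup.card_dvd_of_le hBR
      have h2 : b ≤ (Nat.card (Subgroup.normalizer (R' : Set X))).factorization p :=
        (Nat.Prime.pow_dvd_iff_le_factorization hp Nat.card_pos.ne').mp h1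
      have h3 : Nat.card P1' = p ^ (Nat.card N).factorization p := by
        rw [hP1'def, Subgroup.card_map_of_injective N.subtype_injective, P1.card_eq_multiplicity]
      have h4 := card_lt_card_of_lt hPB
      rw [h3, hb] at h4
      have h5 := (Nat.pow_lt_pow_iff_right hp.one_lt).mp h4
      omega
  have hRn : R.Normal := Subgroup.normalizer_eq_top_iff.mp hRtop
  set H := pCore p X with hH
  have hHne : H ≠ ⊥ := by
    intro h
    exact hR.2.1 (le_bot_iff.mp (h ▸ le_pCore hRn hR.1))
  have hHp : IsPGroup p H := pCore_isPGroup p X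
  have hHS : H ≤ S := pCore_le_sylow S
  -- if `W D` is normal we are done
  have hWn : ¬ (inducedFunctor W D).Normal := by
    intro hi
    apply hX
    have h1 := hS
    rw [Subgroup.normalizer_eq_top_iff.mpr hi] at h1
    exact HasNormalPComplement.of_top h1
  have hDH : ¬ D ≤ H := by
    intro hDH
    have hDn : D.Normal := stronglyClosed_normal_of_le_normal hD hDH hHS
    apply hWn
    rw [← Subgroup.normalizer_eq_top_iff, eq_top_iff, ← Subgroup.normalizer_eq_top_iff.mpr hDn]
    exact normalizer_le_normalizer_inducedFunctor hW D hDp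
  -- Step 2: the quotient by `O_p`
  have hquot : HasNormalPComplement p (X ⧸ H) := by
    have hlt : Nat.card (X ⧸ H) < n := hcard ▸ card_quotient_lt_of_ne_bot hHne
    let π := QuotientGroup.mk' H
    have hπ : Function.Surjective π := QuotientGroup.mk'_surjective H
    let Sb : Sylow p (X ⧸ H) := S.mapSurjective hπ
    have hSb : (Sb : Subgroup (X ⧸ H)) = (S : Subgroup X).map π := Sylow.coe_mapSurjective hπ S
    have hDb : IsStronglyClosed (D.map π) (Sb : Subgroup (X ⧸ H)) := by
      rw [hSb]; exact stronglyClosed_map_sylow π hπ S hD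
    have hDbp : IsPGroup p (D.map π) := hDp.map π
    refine IH _ hlt (X ⧸ H) rfl Sb (D.map π) hDb ?_
    set U := inducedFunctor W (D.map π) with hU
    have hDbne : D.map π ≠ ⊥ := by
      intro h
      rw [Subgroup.map_eq_bot_iff, QuotientGroup.ker_mk'] at h
      exact hDH h
    set L := U.comap π with hL
    have hLn : Subgroup.normalizer (L : Set X) = (Subgroup.normalizer (U : Set (X ⧸ H))).comap π :=
      (Subgroup.comap_normalizer_eq_of_le_range (by
        rw [MonoidHom.range_eq_top.mpr hπ]; exact le_top)).symm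
    have hSL : (S : Subgroup X) ≤ Subgroup.normalizer (L : Set X) := by
      rw [hLn]
      intro s hs
      have h1 : π s ∈ (Sb : Subgroup (X ⧸ H)) := hSb ▸ Subgroup.mem_map_of_mem π hs
      have h2 : π s ∈ Subgroup.normalizer ((D.map π : Subgroup (X ⧸ H)) : Set (X ⧸ H)) :=
        stronglyClosed_le_normalizer hDb h1
      exact normalizer_le_normalizer_inducedFunctor hW (D.map π) hDbp h2
    have hLtop : Subgroup.normalizer (L : Set X) ≠ ⊤ := by
      intro h
      have hLnorm : L.Normal := Subgroup.normalizer_eq_top_iff.mp h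
      have hLS : L ≤ S := by
        calc L ≤ ((S : Subgroup X).map π).comap π :=
              Subgroup.comap_mono ((inducedFunctor_le _).trans (Subgroup.map_mono hD.1))
          _ = (S : Subgroup X) ⊔ π.ker := Subgroup.comap_map_eq _ _
          _ = S := by rw [QuotientGroup.ker_mk', sup_eq_left]; exact hHS
      have hLH : L ≤ H := le_pCore hLnorm (S.2.to_le hLS)
      have hUbot : U = ⊥ := by
        rw [← Subgroup.map_comap_eq_self_of_surjective hπ U, ← hL, Subgroup.map_eq_bot_iff,
          QuotientGroup.ker_mk']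
        exact hLH
      exact inducedFunctor_ne_bot hW (D.map π) hDbp hDbne hUbot
    have h1 := hO _ hSL hLtop
    have h2 := HasNormalPComplement.map π h1
    rw [hLn, Subgroup.map_comap_eq_self_of_surjective hπ] at h2
    exact h2
  -- Step 3: `O_{p'} = 1`
  have hD0 : pPrimeCore p X = ⊥ := by
    by_contra hDne'
    set D0 := pPrimeCore p X with hDdef
    have hDc : (Nat.card D0).Coprime p := card_pPrimeCore_coprime p
    apply hX
    apply hasNormalPComplement_of_quotient_coprime D0 hDc
    have hlt : Nat.card (X ⧸ D0) < n := hcard ▸ card_quotient_lt_of_ne_bot hDne'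
    let π := QuotientGroup.mk' D0
    have hπ : Function.Surjective π := QuotientGroup.mk'_surjective D0
    let Sb : Sylow p (X ⧸ D0) := S.mapSurjective hπ
    have hSb : (Sb : Subgroup (X ⧸ D0)) = (S : Subgroup X).map π := Sylow.coe_mapSurjective hπ S
    have hDb : IsStronglyClosed (D.map π) (Sb : Subgroup (X ⧸ D0)) := by
      rw [hSb]; exact stronglyClosed_map_sylow π hπ S hD
    refine IH _ hlt (X ⧸ D0) rfl Sb (D.map π) hDb ?_
    have hinj : ∀ x ∈ D, π x = 1 → x = 1 := by
      intro x hx h1
      have hxD : x ∈ D0 := (QuotientGroup.eq_one_iff x).mp h1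
      obtain ⟨k, hk⟩ := IsPGroup.iff_card.mp S.2
      have h2 : (S : Subgroup X) ⊓ D0 = ⊥ := (Subgroup.disjoint_of_coprime_natCard (by
        rw [hk]; exact Nat.Coprime.pow_left k hDc.symm)).eq_bot
      exact Subgroup.mem_bot.mp (h2 ▸ (⟨hD.1 hx, hxD⟩ : x ∈ (S : Subgroup X) ⊓ D0))
    rw [inducedFunctor_map hW π D hDp hinj,
      (Cfsg.Agent.S3800.result D0 hDc (inducedFunctor W D) (hDp.to_le (inducedFunctor_le _))).1]
    exact HasNormalPComplement.map π hS
  -- Step 4: `C(O_p) ≤ O_p`
  have hC : Subgroup.centralizer (H : Set X) ≤ H := by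
    set C := Subgroup.centralizer (H : Set X) with hCdef
    have hCn : C.Normal := inferInstance
    let f : C →* X ⧸ H := (QuotientGroup.mk' H).comp C.subtype
    have hker : ∀ c : C, c ∈ f.ker ↔ (c : X) ∈ H := by
      intro c
      simp [f, MonoidHom.mem_ker, QuotientGroup.eq_one_iff]
    have hkc : f.ker ≤ Subgroup.center C := by
      intro c hc
      rw [Subgroup.mem_center_iff]
      intro y
      have := (Subgroup.mem_centralizer_iff.mp y.2) c ((hker c).mp hc)
      exact Subtype.ext this.symm
    have hkp : IsPGroup p f.ker := by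
      have h1 : (f.ker).map C.subtype ≤ H := by
        rintro _ ⟨c, hc, rfl⟩
        exact (hker c).mp hc
      have h2 : IsPGroup p ((f.ker).map C.subtype) := hHp.to_le h1
      exact h2.of_equiv ((f.ker).equivMapOfInjective C.subtype C.subtype_injective).symm
    have hCnpc : HasNormalPComplement p C := hasNormalPComplement_of_central_ker f hkc hkp hquot
    obtain ⟨k, hk⟩ := hasNormalPComplement_iff_index_pPrimeCore.mp hCnpc
    have hbot : pPrimeCore p C = ⊥ := by
      have h1 := pPrimeCore_normal_subgroup_le (p := p) C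
      rw [hD0, le_bot_iff] at h1
      exact (Subgroup.map_eq_bot_iff_of_injective _ C.subtype_injective).mp h1
    rw [hbot, Subgroup.index_bot] at hk
    exact le_pCore hCn (IsPGroup.of_card hk)
  -- Step 5: `S` is maximal
  have hScoatom : IsCoatom (S : Subgroup X) := by
    constructor
    · intro h
      apply hX
      apply hasNormalPComplement_of_isPGroup
      have h1 : IsPGroup p (⊤ : Subgroup X) := h ▸ S.2
      exact h1.of_equiv Subgroup.topEquiv
    · intro M hSM
      by_contra hM
      have hMnpc := hO M hSM.le hM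
      obtain ⟨k, hk⟩ := hasNormalPComplement_iff_index_pPrimeCore.mp hMnpc
      set M0 : Subgroup X := (pPrimeCore p M).map M.subtype with hM0
      have hM0c : (Nat.card M0).Coprime p :=
        Nat.Coprime.of_dvd_left (Subgroup.card_map_dvd _ _) (card_pPrimeCore_coprime p)
      have hM0H : M0 ⊓ H = ⊥ := by
        obtain ⟨j, hj⟩ := IsPGroup.iff_card.mp hHp
        exact (Subgroup.disjoint_of_coprime_natCard (by rw [hj]; exact Nat.Coprime.pow_right j hM0c)).eq_bot
      have hM0cent : M0 ≤ Subgroup.centralizer (H : Set X) := by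
        rintro _ ⟨m, hm, rfl⟩
        rw [Subgroup.mem_centralizer_iff]
        intro h hh
        have hhM : h ∈ M := hSM.le (hHS hh)
        have hHn : H.Normal := inferInstance
        have h1 : (m : X) * h * (m : X)⁻¹ * h⁻¹ ∈ H := H.mul_mem (hHn.conj_mem h hh m) (H.inv_mem hh)
        have hMn : (pPrimeCore p M).Normal := inferInstance
        have h2 : (m : X) * h * (m : X)⁻¹ * h⁻¹ ∈ M0 :=
          ⟨m * ((⟨h, hhM⟩ : M) * m⁻¹ * (⟨h, hhM⟩ : M)⁻¹),
            mul_mem hm (hMn.conj_mem _ (inv_mem hm) _), by simp [mul_assoc]⟩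
        have h3 : (m : X) * h * (m : X)⁻¹ * h⁻¹ = 1 :=
          Subgroup.mem_bot.mp (hM0H ▸ (⟨h2, h1⟩ : _ ∈ M0 ⊓ H))
        show h * (m : X) = (m : X) * h
        calc h * (m : X) = ((m : X) * h * (m : X)⁻¹ * h⁻¹)⁻¹ * ((m : X) * h) := by group
          _ = (m : X) * h := by rw [h3]; simp
      have hM0bot : M0 = ⊥ := by
        rw [← hM0H]
        exact (inf_eq_left.mpr (hM0cent.trans hC)).symm
      have hbot : pPrimeCore p M = ⊥ := (Subgroup.map_eq_bot_iff_of_injective _ M.subtype_injective).mp hM0bot
      rw [hbot, Subgroup.index_bot] at hk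
      have hMp : IsPGroup p M := IsPGroup.of_card hk
      exact hSM.ne (S.3 hMp hSM.le).symm
  exact hWn (hGood X S ⟨hC, hquot, hScoatom⟩ D hD)

/-- **Generic Thompson-type reduction for a strongly closed subgroup.** -/
theorem hasNormalPComplement_of_stronglyClosed [Fact p.Prime]
    (W : ∀ (Q : Type u) [Group Q], Subgroup Q) (hW : IsCharPFunctor p W)
    (hGood : ∀ (Y : Type u) [Group Y] [Finite Y], ∀ T : Sylow p Y, FinalConfig p Y T →
        ∀ D : Subgroup Y, IsStronglyClosed D (T : Subgroup Y) → (inducedFunctor W D).Normal)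
    (X : Type u) [Group X] [Finite X] (S : Sylow p X) (D : Subgroup X)
    (hD : IsStronglyClosed D (S : Subgroup X))
    (hS : HasNormalPComplement p (Subgroup.normalizer (inducedFunctor W D : Set X))) :
    HasNormalPComplement p X :=
  hasNormalPComplement_of_stronglyClosed_aux W hW hGood _ X rfl S D hD hS

end Cfsg.Agent.Lib.Helper51
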