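import Mathlib
import Cfsg.Prelude.Def_TwoFusion
import Cfsg.Prelude.Def_LocalEven
import Cfsg.Prelude.Def_ConjugacyFunctors
import Cfsg.Agent.Lib.Lead.Functor
import Cfsg.Agent.Lib.Helper1.Nilpotent
import Cfsg.Agent.Lib.Helper11.PStable2
import Cfsg.Agent.Lib.Helper51.SCReduction
import Cfsg.Agent.Lib.Helper51.PGroup
import Cfsg.Agent.Lib.Helper33.RelSylow
import Cfsg.Agent.S1961
import Cfsg.Agent.S1967

/-!
Control of strong fusion by the normalizer of a characteristic functor evaluated at a strongly closed subgroup,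
for groups which are `p`-stable (normalizer form) and whose `p`-local subgroups are `p`-constrained.
-/

set_option autoImplicit false

universe u

namespace Cfsg.Agent.Lib.Helper51

open Cfsg Cfsg.Agent.Lib.Lead Cfsg.Agent.Lib.Helper11 Subgroup
open scoped commutatorElement Pointwise

variable {p : ℕ}

theorem stabElt_of_isNormalizerPStable {G : Type*} [Group G] (hst : IsNormalizerPStable p G) :
    StabElt p G := by
  intro P a hP ha _ _ hq
  exact (mk_subgroupOf_mem_pCore_iff p (normalizer (P : Set G)) (centralizer (P : Set G))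
    (centralizer_le_normalizer _) ⟨a, ha⟩).1 (hst P hP a ha hq)

/-- the normalizer form of `p`-stability is inherited by subgroups -/
theorem isNormalizerPStable_subgroup {G : Type*} [Group G] [Finite G] (hst : IsNormalizerPStable p G) (H : Subgroup G) :
    IsNormalizerPStable p H := by
  intro P' hP' g hg hq
  have hgN : (g : G) ∈ normalizer ((P'.map H.subtype : Subgroup G) : Set G) :=
    le_normalizer_map H.subtype (mem_map_of_mem H.subtype hg)
  have hq' : ⁅⁅P'.map H.subtype, zpowers (g : G)⁆, zpowers (g : G)⁆ = ⊥ := by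
    have h1 : zpowers (g : G) = (zpowers g).map H.subtype := by
      rw [MonoidHom.map_zpowers]; rfl
    rw [h1, ← map_commutator, ← map_commutator, hq, Subgroup.map_bot]
  have h2 := (mk_subgroupOf_mem_pCore_iff p _ _ (centralizer_le_normalizer _) ⟨(g : G), hgN⟩).1
    (hst (P'.map H.subtype) (hP'.map _) (g : G) hgN hq')
  obtain ⟨D₁, hCD, hDN, hND, hDp, hx⟩ := h2
  refine (mk_subgroupOf_mem_pCore_iff p (normalizer (P' : Set H)) (centralizer (P' : Set H))
    (centralizer_le_normalizer _) ⟨g, hg⟩).2 ?_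
  have hcent : ∀ c : H, c ∈ centralizer (P' : Set H) ↔
      (c : G) ∈ centralizer ((P'.map H.subtype : Subgroup G) : Set G) := by
    intro c
    rw [mem_centralizer_iff, mem_centralizer_iff]
    constructor
    · rintro h _ ⟨u, hu, rfl⟩
      exact congrArg Subtype.val (h u hu)
    · intro h u hu
      exact Subtype.ext (h _ (mem_map_of_mem H.subtype hu))
  refine ⟨D₁.comap H.subtype ⊓ normalizer (P' : Set H), ?_, inf_le_right, ?_, ?_, mem_inf.2 ⟨hx, hg⟩⟩
  · intro c hc
    exact mem_inf.2 ⟨hCD ((hcent c).1 hc), centralizer_le_normalizer _ hc⟩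
  · intro n hn
    have hnN : (n : G) ∈ normalizer ((P'.map H.subtype : Subgroup G) : Set G) :=
      le_normalizer_map H.subtype (mem_map_of_mem H.subtype hn)
    have hnD := hND hnN
    apply mem_normalizer_of_conj_mem
    intro d hd
    obtain ⟨hd1, hd2⟩ := mem_inf.1 hd
    refine mem_inf.2 ⟨?_, mul_mem (mul_mem hn hd2) (inv_mem hn)⟩
    rw [mem_comap]
    exact conj_mem_of_mem_normalizer hnD hd1
  · intro d hd
    obtain ⟨k, hk⟩ := hDp _ (mem_inf.1 hd).1
    exact ⟨k, (hcent _).2 hk⟩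

/-- The hypothesis on the functor: in a group `Y` with `C_Y(O_p(Y)) ≤ O_p(Y)` acting `p`-stably on its normal
`p`-subgroups the functor evaluated at a strongly closed subgroup is normal. -/
def SCNormalHyp (p : ℕ) (W : ∀ (Q : Type u) [Group Q], Subgroup Q) : Prop :=
  ∀ (Y : Type u) [Group Y] [Finite Y] (T : Sylow p Y),
    centralizer (pCore p Y : Set Y) ≤ pCore p Y →
    (∀ (V : Subgroup Y) [V.Normal], IsPGroup p V → IsPStableOn p V) →
    ∀ E : Subgroup Y, IsStronglyClosed E (T : Subgroup Y) → (inducedFunctor W E).Normal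

theorem pPrimeCore_sup_normalizer_inducedFunctor [Fact p.Prime] (W : ∀ (Q : Type u) [Group Q], Subgroup Q)
    (hW : IsCharPFunctor p W) (hfin : SCNormalHyp p W)
    (L : Type u) [Group L] [Finite L] (hst : IsNormalizerPStable p L) (hc : IsPConstrained p L)
    (R : Sylow p L) (E : Subgroup L) (hE : IsStronglyClosed E (R : Subgroup L)) :
    pPrimeCore p L ⊔ normalizer (inducedFunctor W E : Set L) = ⊤ := by
  set π := QuotientGroup.mk' (pPrimeCore p L) with hπ
  have hπs : Function.Surjective π := QuotientGroup.mk'_surjective _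
  have hEp : IsPGroup p E := R.2.to_le hE.1
  have h1 := hfin (L ⧸ pPrimeCore p L) (R.mapSurjective hπs) (centralizer_pCore_quotient_le hc)
    (fun V _ hV => (stabElt_of_isNormalizerPStable hst).quotient.isPStableOn V hV) (E.map π)
    (by rw [Sylow.coe_mapSurjective]; exact stronglyClosed_map_sylow π hπs R hE)
  have hinj : ∀ x ∈ E, π x = 1 → x = 1 := by
    intro x hx hx1
    have h2 : x ∈ pPrimeCore p L ⊓ E := mem_inf.2 ⟨(QuotientGroup.eq_one_iff x).1 hx1, hx⟩
    rwa [pPrimeCore_inf_eq_bot hEp, mem_bot] at h2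
  rw [inducedFunctor_map hW π E hEp hinj] at h1
  have hWp : IsPGroup p (inducedFunctor W E) := hEp.to_le (inducedFunctor_le E)
  apply pPrimeCore_sup_normalizer_eq_top hWp
  have h3 := comap_map_eq π (inducedFunctor W E)
  rw [hπ, QuotientGroup.ker_mk', ← hπ, sup_comm] at h3
  rw [← h3]
  infer_instance

/-- If `L = K N₁` with `K` a normal `p'`-subgroup, then `N₁` controls strong fusion in each of its `p`-subgroups. -/
theorem controls_of_factorization [Fact p.Prime] {L : Type*} [Group L] [Finite L] (K N₁ : Subgroup L) [hKn : K.Normal]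
    (hK : (Nat.card K).Coprime p) (hKN : K ⊔ N₁ = ⊤) (R : Subgroup L) (hR : IsPGroup p R) (hRN : R ≤ N₁)
    (A : Set L) (h : L) (hA : A ⊆ R) (hA' : ∀ a ∈ A, h * a * h⁻¹ ∈ R) :
    ∃ x ∈ N₁, ∀ a ∈ A, x * a * x⁻¹ = h * a * h⁻¹ := by
  have hh : h⁻¹ ∈ K ⊔ N₁ := by rw [hKN]; exact mem_top _
  obtain ⟨k', hk', n', hn', hkn⟩ := mem_sup_normal_left.1 hh
  -- `h = n k` with `n = n'⁻¹`, `k = k'⁻¹`
  set n := n'⁻¹ with hn
  set k := k'⁻¹ with hk
  have hnN : n ∈ N₁ := inv_mem hn'
  have hkK : k ∈ K := inv_mem hk'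
  have hhnk : h = n * k := by
    rw [hn, hk, ← mul_inv_rev, ← hkn, inv_inv]
  set B := closure A with hB
  have hBR : B ≤ R := (closure_le _).2 hA
  have hBp : IsPGroup p B := hR.to_le hBR
  have hBN : B ≤ N₁ := hBR.trans hRN
  have hkB : ∀ b ∈ B, k * b * k⁻¹ ∈ N₁ := by
    intro b hb
    induction hb using closure_induction with
    | mem a ha =>
      have h1 := hRN (hA' a ha)
      have e : k * a * k⁻¹ = n⁻¹ * (h * a * h⁻¹) * n := by rw [hhnk]; group
      rw [e]
      exact mul_mem (mul_mem (inv_mem hnN) h1) hnN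
    | one => simp
    | mul x y _ _ hx hy =>
      have e : k * (x * y) * k⁻¹ = (k * x * k⁻¹) * (k * y * k⁻¹) := by group
      rw [e]; exact mul_mem hx hy
    | inv x _ hx =>
      have e : k * x⁻¹ * k⁻¹ = (k * x * k⁻¹)⁻¹ := by group
      rw [e]; exact inv_mem hx
  -- work in `M = (K ⊓ N₁) B`
  set K₁ := K ⊓ N₁ with hK₁
  have hBK₁ : B ≤ normalizer (K₁ : Set L) := by
    intro b hb
    apply mem_normalizer_of_conj_mem
    intro c hc
    exact mem_inf.2 ⟨hKn.conj_mem c (mem_inf.1 hc).1 b,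
      mul_mem (mul_mem (hBN hb) (mem_inf.1 hc).2) (inv_mem (hBN hb))⟩
  have hKB : ∀ x, x ∈ K → x ∈ B → x = 1 := by
    intro x hxK hxB
    have hdis : Disjoint K B := by
      apply disjoint_of_coprime_natCard
      obtain ⟨j, hj⟩ := hBp.exists_card_eq
      rw [hj]
      exact Nat.Coprime.pow_right j hK
    have : x ∈ K ⊓ B := mem_inf.2 ⟨hxK, hxB⟩
    rwa [disjoint_iff.1 hdis, mem_bot] at this
  have hrel : Cfsg.Agent.Lib.Helper33.RelSyl p B (B ⊔ K₁) := by
    refine ⟨le_sup_left, hBp, ?_⟩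
    have h1 := card_sup_mul_card_inf_of_le_normalizer B K₁ hBK₁
    have h2 : B ⊓ K₁ = ⊥ := by
      rw [eq_bot_iff]
      intro x hx
      exact mem_bot.2 (hKB x (mem_inf.1 (mem_inf.1 hx).2).1 (mem_inf.1 hx).1)
    rw [h2, card_bot, mul_one] at h1
    have h3 := relIndex_mul_relIndex ⊥ B (B ⊔ K₁) bot_le le_sup_left
    rw [relIndex_bot_left, relIndex_bot_left, h1] at h3
    have h4 : B.relIndex (B ⊔ K₁) = Nat.card K₁ := Nat.eq_of_mul_eq_mul_left Nat.card_pos h3
    rw [h4]
    intro hdvd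
    have h5 : p ∣ Nat.card K := hdvd.trans (card_dvd_of_le inf_le_left)
    exact (Nat.Prime.coprime_iff_not_dvd Fact.out).1 hK.symm h5
  have hB'M : MulAut.conj k • B ≤ B ⊔ K₁ := by
    rintro _ ⟨b, hb, rfl⟩
    have e : k * b * k⁻¹ = b * (b⁻¹ * k * b * k⁻¹) := by group
    change k * b * k⁻¹ ∈ _
    rw [e]
    refine mul_mem (le_sup_left (a := B) (b := K₁) hb) (le_sup_right (a := B) (b := K₁) (mem_inf.2 ⟨?_, ?_⟩))
    · have h1 := hKn.conj_mem k hkK b⁻¹
      rw [inv_inv] at h1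
      exact mul_mem h1 (inv_mem hkK)
    · have e2 : b⁻¹ * k * b * k⁻¹ = b⁻¹ * (k * b * k⁻¹) := by group
      rw [e2]
      exact mul_mem (inv_mem (hBN hb)) (hkB b hb)
  obtain ⟨x, hxM, hx⟩ := hrel.exists_conj_le hB'M (Cfsg.Agent.Lib.Helper33.isPGroup_conj_smul hBp k)
  have hxB : ∀ b ∈ B, x * (k * b * k⁻¹) * x⁻¹ ∈ B := by
    intro b hb
    exact hx ⟨k * b * k⁻¹, ⟨b, hb, rfl⟩, rfl⟩
  have hMN : B ⊔ K₁ ≤ N₁ := sup_le hBN inf_le_right
  have hMK : B ⊔ K₁ ≤ K ⊔ B := sup_le le_sup_right (inf_le_left.trans le_sup_left)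
  obtain ⟨c, hc, b₀, hb₀, hxc⟩ := mem_sup_normal_left.1 (hMK hxM)
  refine ⟨n * (x⁻¹ * b₀), mul_mem hnN (mul_mem (inv_mem (hMN hxM)) (hBN hb₀)), ?_⟩
  intro a ha
  have haB : a ∈ B := Subgroup.subset_closure ha
  have h1 : (x * (k * a * k⁻¹) * x⁻¹) * (b₀ * a * b₀⁻¹)⁻¹ = 1 := by
    apply hKB
    · have e : (x * (k * a * k⁻¹) * x⁻¹) * (b₀ * a * b₀⁻¹)⁻¹ =
          c * ((b₀ * k * b₀⁻¹) * ((b₀ * a * b₀⁻¹) * ((b₀ * k⁻¹ * b₀⁻¹) * c⁻¹) * (b₀ * a * b₀⁻¹)⁻¹)) := by
        rw [hxc]; group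
      rw [e]
      refine mul_mem hc (mul_mem (hKn.conj_mem k hkK b₀) (hKn.conj_mem _ ?_ _))
      exact mul_mem (hKn.conj_mem _ (inv_mem hkK) b₀) (inv_mem hc)
    · exact mul_mem (hxB a haB) (inv_mem (mul_mem (mul_mem hb₀ haB) (inv_mem hb₀)))
  have h2 : x * (k * a * k⁻¹) * x⁻¹ = b₀ * a * b₀⁻¹ := mul_inv_eq_one.1 h1
  have h3 : k * a * k⁻¹ = x⁻¹ * (b₀ * a * b₀⁻¹) * x := by rw [← h2]; group
  calc n * (x⁻¹ * b₀) * a * (n * (x⁻¹ * b₀))⁻¹ = n * (x⁻¹ * (b₀ * a * b₀⁻¹) * x) * n⁻¹ := by group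
    _ = n * (k * a * k⁻¹) * n⁻¹ := by rw [h3]
    _ = h * a * h⁻¹ := by rw [hhnk]; group

section global

variable {G : Type u} [Group G]

/-- the subgroup of `T` generated by the elements with a conjugate in `D`. -/
def fusD (D T : Subgroup G) : Subgroup G := closure {t | t ∈ T ∧ ∃ g : G, g * t * g⁻¹ ∈ D}

theorem fusD_le (D T : Subgroup G) : fusD D T ≤ T := (closure_le _).2 (fun _ ht => ht.1)

theorem fusD_map_conj (D T : Subgroup G) (g : G) :
    fusD D (T.map (MulAut.conj g).toMonoidHom) = (fusD D T).map (MulAut.conj g).toMonoidHom := by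
  unfold fusD
  rw [MonoidHom.map_closure]
  congr 1
  ext t
  constructor
  · rintro ⟨⟨s, hs, rfl⟩, x, hx⟩
    refine ⟨s, ⟨hs, x * g, ?_⟩, rfl⟩
    have e : x * g * s * (x * g)⁻¹ = x * (MulAut.conj g).toMonoidHom s * x⁻¹ := by
      simp only [MulEquiv.coe_toMonoidHom, MulAut.conj_apply]; group
    rw [e]; exact hx
  · rintro ⟨s, ⟨hs, x, hx⟩, rfl⟩
    refine ⟨⟨s, hs, rfl⟩, x * g⁻¹, ?_⟩
    have e : x * g⁻¹ * (MulAut.conj g).toMonoidHom s * (x * g⁻¹)⁻¹ = x * s * x⁻¹ := by
      simp only [MulEquiv.coe_toMonoidHom, MulAut.conj_apply]; group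
    rw [e]; exact hx

theorem fusD_eq_inf {D P T : Subgroup G} (hD : IsStronglyClosed D P) (hT : T ≤ P) : fusD D T = D ⊓ T := by
  apply le_antisymm
  · refine (closure_le _).2 ?_
    rintro t ⟨ht, g, hg⟩
    refine mem_inf.2 ⟨?_, ht⟩
    have e : g⁻¹ * (g * t * g⁻¹) * g⁻¹⁻¹ = t := by group
    have h1 := hD.2 _ hg g⁻¹ (by rw [e]; exact hT ht)
    rwa [e] at h1
  · intro t ht
    exact Subgroup.subset_closure ⟨(mem_inf.1 ht).2, 1, by simpa using (mem_inf.1 ht).1⟩

open Classical in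
/-- the conjugacy functor attached to `W` and `D`. -/
noncomputable def scFunctor (W : ∀ (Q : Type u) [Group Q], Subgroup Q) (D : Subgroup G) :
    Subgroup G → Subgroup G :=
  fun T => if fusD D T = ⊥ then T else inducedFunctor W (fusD D T)

theorem isConjugacyFunctor_scFunctor [Finite G] (W : ∀ (Q : Type u) [Group Q], Subgroup Q)
    (hW : IsCharPFunctor p W) (D : Subgroup G) : IsConjugacyFunctor p (scFunctor W D) := by
  intro T hT
  have hFp : IsPGroup p (fusD D T) := hT.to_le (fusD_le D T)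
  refine ⟨?_, ?_, ?_⟩
  · unfold scFunctor
    split_ifs with h
    · exact le_rfl
    · exact (inducedFunctor_le _).trans (fusD_le D T)
  · intro hne
    unfold scFunctor
    split_ifs with h
    · exact hne
    · exact inducedFunctor_ne_bot hW _ hFp h
  · intro g
    unfold scFunctor
    rw [fusD_map_conj]
    have hiff : (fusD D T).map (MulAut.conj g).toMonoidHom = ⊥ ↔ fusD D T = ⊥ :=
      (map_eq_bot_iff_of_injective _ (MulAut.conj g).injective)
    by_cases h : fusD D T = ⊥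
    · rw [if_pos h, if_pos (hiff.2 h)]
    · rw [if_neg h, if_neg (fun h' => h (hiff.1 h'))]
      exact inducedFunctor_map hW _ _ hFp (fun x _ hx => (MulAut.conj g).injective (by simpa using hx))

theorem exists_central_mem_of_stronglyClosed [Fact p.Prime] [Finite G] (P : Sylow p G) (D : Subgroup G)
    (hD : IsStronglyClosed D (P : Subgroup G)) (hD1 : D ≠ ⊥) :
    ∃ z ∈ D, z ≠ 1 ∧ ∀ y ∈ (P : Subgroup G), y * z = z * y := by
  have hDn : (D.subgroupOf (P : Subgroup G)).Normal :=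
    (normal_subgroupOf_iff_le_normalizer hD.1).2 (stronglyClosed_le_normalizer hD)
  have hne : D.subgroupOf (P : Subgroup G) ≠ ⊥ := by
    rw [Ne, subgroupOf_eq_bot, disjoint_iff, inf_eq_left.2 hD.1]; exact hD1
  have := P.2.isNilpotent
  obtain ⟨⟨z, hz⟩, hz1⟩ := ne_bot_iff_exists_ne_one.1 (Cfsg.Agent.Lib.Helper1.normal_inf_center_ne_bot hne)
  obtain ⟨hzD, hzc⟩ := mem_inf.1 hz
  refine ⟨(z : G), mem_subgroupOf.1 hzD, fun h => hz1 (Subtype.ext (Subtype.ext h)), ?_⟩
  intro y hy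
  exact congrArg Subtype.val ((mem_center_iff.1 hzc) ⟨y, hy⟩)

theorem controlsStrongFusion_of_stronglyClosed [Fact p.Prime] [Finite G]
    (W : ∀ (Q : Type u) [Group Q], Subgroup Q) (hW : IsCharPFunctor p W) (hfin : SCNormalHyp p W)
    (P : Sylow p G) (D : Subgroup G) (hD : IsStronglyClosed D (P : Subgroup G))
    (hst : IsNormalizerPStable p G)
    (hc : ∀ U : Subgroup G, U ≤ (P : Subgroup G) → U ≠ ⊥ → IsPConstrained p ↥(normalizer (U : Set G))) :
    ∀ A : Set G, A ⊆ (P : Subgroup G) →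
      ControlsStrongFusionOf (normalizer (inducedFunctor W D : Set G)) (P : Subgroup G) A := by
  intro A hA
  refine ⟨hA, ?_⟩
  intro g hg
  by_cases hD1 : D = ⊥
  · have h1 : inducedFunctor W D = ⊥ := by
      rw [eq_bot_iff]; exact (inducedFunctor_le D).trans (le_of_eq hD1)
    refine ⟨g, ?_, fun _ _ => rfl⟩
    rw [h1, normalizer_eq_top_iff.2 inferInstance]
    exact mem_top g
  have hconj := isConjugacyFunctor_scFunctor (p := p) W hW D
  obtain ⟨z, hzD, hz1, hzP⟩ := exists_central_mem_of_stronglyClosed P D hD hD1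
  have hglob : ControlsStrongFusionIn p (scFunctor W D) ⊤ := by
    apply Cfsg.Agent.S1961.result P _ hconj
    intro T hT hwp
    obtain ⟨hTP, htower⟩ := hwp
    have h0 := htower 0
    change ¬ p ∣ ((P : Subgroup G) ⊓ normalizer (T : Set G)).relIndex (normalizer (T : Set G)) at h0
    set H := normalizer (T : Set G) with hH
    refine ⟨(P : Subgroup G) ⊓ H, inf_le_right, P.2.to_le inf_le_left, h0, ?_⟩
    intro A h hh hA hA'
    have hidx : ¬ p ∣ ((P : Subgroup G).subgroupOf H).index := by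
      rw [inf_relIndex_right] at h0; exact h0
    have hPp : IsPGroup p ((P : Subgroup G).subgroupOf H) := P.2.comap_of_injective _ H.subtype_injective
    set RL : Sylow p H := hPp.toSylow hidx with hRL
    set EL : Subgroup H := D.subgroupOf H with hEL
    have hsc : IsStronglyClosed EL (RL : Subgroup H) := stronglyClosed_comap H.subtype hD
    have hELp : IsPGroup p EL := RL.2.to_le hsc.1
    have hfac := pPrimeCore_sup_normalizer_inducedFunctor W hW hfin H (isNormalizerPStable_subgroup hst H)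
      (hc T hTP hT) RL EL hsc
    have hRN : (RL : Subgroup H) ≤ normalizer (inducedFunctor W EL : Set H) :=
      (stronglyClosed_le_normalizer hsc).trans (normalizer_le_normalizer_inducedFunctor hW EL hELp)
    obtain ⟨x, hx, hxa⟩ := controls_of_factorization (pPrimeCore p H) (normalizer (inducedFunctor W EL : Set H))
      (card_pPrimeCore_coprime p) hfac (RL : Subgroup H) RL.2 hRN (Subtype.val ⁻¹' A) ⟨h, hh⟩
      (fun a ha => mem_subgroupOf.2 (hA ha).1)
      (fun a ha => mem_subgroupOf.2 (hA' ⟨(a : G), ha, rfl⟩).1)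
    refine ⟨x, mem_inf.2 ⟨x.2, ?_⟩, ?_⟩
    · have hzH : z ∈ H := by
        apply centralizer_le_normalizer
        rw [mem_centralizer_iff]
        intro t ht
        exact hzP t (hTP ht)
      have hF : fusD D ((P : Subgroup G) ⊓ H) = D ⊓ H := by
        rw [fusD_eq_inf hD inf_le_left, ← inf_assoc, inf_eq_left.2 hD.1]
      have hne : D ⊓ H ≠ ⊥ := by
        intro hb
        have : z ∈ D ⊓ H := mem_inf.2 ⟨hzD, hzH⟩
        rw [hb, mem_bot] at this
        exact hz1 this
      have hWv : scFunctor W D ((P : Subgroup G) ⊓ H) = (inducedFunctor W EL).map H.subtype := by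
        unfold scFunctor
        rw [hF, if_neg hne, ← inducedFunctor_map hW H.subtype EL hELp
          (fun y _ hy => Subtype.ext hy), hEL, subgroupOf_map_subtype]
      rw [hWv]
      exact le_normalizer_map H.subtype (mem_map_of_mem H.subtype hx)
    · intro a ha
      exact congrArg Subtype.val (hxa ⟨a, (hA ha).2⟩ ha)
  have hcl : (closure A).map (MulAut.conj g).toMonoidHom ≤ (P : Subgroup G) := by
    rw [MonoidHom.map_closure, closure_le]
    exact hg
  obtain ⟨n, hn, c, hc', rfl⟩ := (Cfsg.Agent.S1967.result P _ hconj).1 hglob (closure A) g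
    ((closure_le _).2 hA) hcl
  have hWP : scFunctor W D (P : Subgroup G) = inducedFunctor W D := by
    unfold scFunctor
    rw [fusD_eq_inf hD le_rfl, inf_eq_left.2 hD.1, if_neg hD1]
  rw [hWP] at hn
  refine ⟨n, hn, ?_⟩
  intro a ha
  have h1 := mem_centralizer_iff.1 hc' a (Subgroup.subset_closure ha)
  calc n * c * a * (n * c)⁻¹ = n * (c * a) * c⁻¹ * n⁻¹ := by group
    _ = n * (a * c) * c⁻¹ * n⁻¹ := by rw [h1]
    _ = n * a * n⁻¹ := by group

end global

end Cfsg.Agent.Lib.Helper51
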