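import Mathlib
import Cfsg.Agent.Lib.Helper51.SCFusion
import Cfsg.Agent.Lib.Helper51.SylowSub
import Cfsg.Agent.Lib.Helper54.PConstrained2
import Cfsg.Agent.Lib.Helper9.SectionFusion6
import Cfsg.Agent.Lib.Helper9.KInfChar
import Cfsg.Agent.Lib.Lead.Residual
import Cfsg.Agent.S1987
import Cfsg.Agent.S1978

/-!
Control of strong fusion by the normalizer of a characteristic functor evaluated at a strongly closed subgroup,
for groups all of whose sections are `p`-stable (normalizer form).  The reduction to a `p`-constrained group goes through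
the normalizer of the lower K-infinity subgroup of a Sylow subgroup, which controls strong fusion and is `p`-constrained.
-/

set_option autoImplicit false

universe u

namespace Cfsg.Agent.Lib.Helper51

open Cfsg Cfsg.Agent.Lib.Lead Cfsg.Agent.Lib.Helper11 Subgroup
open scoped commutatorElement Pointwise

variable {p : ℕ}

theorem isPConstrained_of_hasNormalPComplement [Fact p.Prime] {G : Type*} [Group G] [Finite G]
    (h : HasNormalPComplement p G) : IsPConstrained p G := by
  obtain ⟨k, hk⟩ := hasNormalPComplement_iff_index_pPrimeCore.1 h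
  have h1 : IsPGroup p (G ⧸ Cfsg.pPrimeCore p G) := by
    apply IsPGroup.of_card (n := k)
    rw [← index_eq_card, hk]
  have h2 : Cfsg.pPrimePCore p G = ⊤ := by
    unfold Cfsg.pPrimePCore
    rw [pCore_eq_top_iff.2 h1, comap_top]
  intro P x _
  have : x ∈ (⊤ : Subgroup G) := mem_top x
  rwa [← h2] at this

/-- If `U` is normal in the Sylow subgroup `P` and `C_P(U) ≤ U`, then `C_G(U)` has a normal `p`-complement. -/
theorem hasNormalPComplement_centralizer_of_centric [Fact p.Prime] {G : Type*} [Group G] [Finite G]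
    (P : Sylow p G) (U : Subgroup G) (hUP : U ≤ (P : Subgroup G))
    (hPN : (P : Subgroup G) ≤ normalizer (U : Set G))
    (hC : centralizer (U : Set G) ⊓ (P : Subgroup G) ≤ U) :
    HasNormalPComplement p ↥(centralizer (U : Set G)) := by
  set C := centralizer (U : Set G) with hCdef
  obtain ⟨Q⟩ : Nonempty (Sylow p C) := Sylow.nonempty
  have hQU : ∀ q ∈ (Q : Subgroup C), (q : G) ∈ U := by
    have hQp : IsPGroup p ((Q : Subgroup C).map C.subtype) := Q.2.map _
    have hQN : (Q : Subgroup C).map C.subtype ≤ normalizer (U : Set G) := by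
      rintro _ ⟨q, _, rfl⟩
      exact centralizer_le_normalizer _ q.2
    obtain ⟨x, hx, hxq⟩ := exists_mem_conj_mem_sylow P (normalizer (U : Set G)) _ hPN hQp hQN
    intro q hq
    have h1 := hxq (q : G) ⟨q, hq, rfl⟩
    have h2 : x * (q : G) * x⁻¹ ∈ C := by
      change x * (q : G) * x⁻¹ ∈ centralizer (U : Set G)
      rw [mem_centralizer_iff]
      intro u hu
      have hu' : x⁻¹ * u * x ∈ U := by
        have := conj_mem_of_mem_normalizer (inv_mem hx) hu
        simpa using this
      have h3 := mem_centralizer_iff.1 q.2 _ hu'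
      calc u * (x * (q : G) * x⁻¹) = x * ((x⁻¹ * u * x) * (q : G)) * x⁻¹ := by group
        _ = x * ((q : G) * (x⁻¹ * u * x)) * x⁻¹ := by rw [h3]
        _ = x * (q : G) * x⁻¹ * u := by group
    have h4 := hC (mem_inf.2 ⟨h2, h1⟩)
    have h5 := conj_mem_of_mem_normalizer (inv_mem hx) h4
    have e : x⁻¹ * (x * (q : G) * x⁻¹) * x⁻¹⁻¹ = q := by group
    rwa [e] at h5
  refine ⟨Q, _, inferInstance, MonoidHom.ker_transferSylow_isComplement' Q ?_⟩
  intro c _
  rw [mem_centralizer_iff]
  intro q hq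
  apply Subtype.ext
  exact mem_centralizer_iff.1 c.2 _ (hQU q hq)

theorem isPConstrained_normalizer_of_centric [Fact p.Prime] {G : Type*} [Group G] [Finite G]
    (P : Sylow p G) (U : Subgroup G) (hUP : U ≤ (P : Subgroup G))
    (hPN : (P : Subgroup G) ≤ normalizer (U : Set G))
    (hC : centralizer (U : Set G) ⊓ (P : Subgroup G) ≤ U) :
    IsPConstrained p ↥(normalizer (U : Set G)) :=
  Cfsg.Agent.Lib.Helper54.isPConstrained_normalizer_of_centralizer U (P.2.to_le hUP)
    (isPConstrained_of_hasNormalPComplement (hasNormalPComplement_centralizer_of_centric P U hUP hPN hC))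

/-- transport of control of strong fusion by `N_G(U)` to every Sylow subgroup normalizing... containing `U` as the value of a
conjugation-equivariant construction. -/
theorem controls_normalizer_of_controlsStrongFusion [Fact p.Prime] {G : Type*} [Group G] [Finite G]
    (P : Sylow p G) (U : Subgroup G) (hUP : U ≤ (P : Subgroup G)) (h : ControlsStrongFusion p U) :
    ∀ A : Set G, A ⊆ (P : Subgroup G) → ControlsStrongFusionOf (normalizer (U : Set G)) (P : Subgroup G) A := by
  obtain ⟨T, hUT, hT⟩ := h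
  obtain ⟨g, hg⟩ := MulAction.exists_smul_eq G P T
  have hmem : ∀ x, x ∈ (P : Subgroup G) → g * x * g⁻¹ ∈ (T : Subgroup G) := by
    intro x hx
    rw [← hg, mem_smul_sylow]
    have e : g⁻¹ * (g * x * g⁻¹) * g = x := by group
    rwa [e]
  have hmem' : ∀ x, g * x * g⁻¹ ∈ (T : Subgroup G) → x ∈ (P : Subgroup G) := by
    intro x hx
    rw [← hg, mem_smul_sylow] at hx
    have e : g⁻¹ * (g * x * g⁻¹) * g = x := by group
    rwa [e] at hx
  -- `g` normalizes `U`
  obtain ⟨x₀, hx₀, hx₀'⟩ := (hT (U : Set G) hUT).2 g (by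
    rintro _ ⟨u, hu, rfl⟩
    exact hmem u (hUP hu))
  have hgN : g ∈ normalizer (U : Set G) := by
    apply mem_normalizer_of_conj_mem
    intro u hu
    rw [hx₀' u hu]
    exact conj_mem_of_mem_normalizer hx₀ hu
  intro A hA
  refine ⟨hA, ?_⟩
  intro y hy
  obtain ⟨x, hx, hxa⟩ := (hT ((fun a => g * a * g⁻¹) '' A) (by
    rintro _ ⟨a, ha, rfl⟩
    exact hmem a (hA ha))).2 (g * y * g⁻¹) (by
    rintro _ ⟨_, ⟨a, ha, rfl⟩, rfl⟩
    have e : g * y * g⁻¹ * (g * a * g⁻¹) * (g * y * g⁻¹)⁻¹ = g * (y * a * y⁻¹) * g⁻¹ := by group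
    change g * y * g⁻¹ * (g * a * g⁻¹) * (g * y * g⁻¹)⁻¹ ∈ _
    rw [e]
    exact hmem _ (hy ⟨a, ha, rfl⟩))
  refine ⟨g⁻¹ * x * g, mul_mem (mul_mem (inv_mem hgN) hx) hgN, ?_⟩
  intro a ha
  have h1 := hxa _ ⟨a, ha, rfl⟩
  calc y * a * y⁻¹ = g⁻¹ * (g * y * g⁻¹ * (g * a * g⁻¹) * (g * y * g⁻¹)⁻¹) * g := by group
    _ = g⁻¹ * (x * (g * a * g⁻¹) * x⁻¹) * g := by rw [h1]
    _ = g⁻¹ * x * g * a * (g⁻¹ * x * g)⁻¹ := by group

theorem controlsStrongFusion_of_stronglyClosed_of_sections [Fact p.Prime] {G : Type u} [Group G] [Finite G]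
    (hp : p ≠ 2)
    (W : ∀ (Q : Type u) [Group Q], Subgroup Q) (hW : IsCharPFunctor p W) (hfin : SCNormalHyp p W)
    (P : Sylow p G) (D : Subgroup G) (hD : IsStronglyClosed D (P : Subgroup G))
    (hst : ∀ (K R : Subgroup G) [hR : (R.subgroupOf K).Normal],
      IsNormalizerPStable p (↥K ⧸ R.subgroupOf K)) :
    ∀ A : Set G, A ⊆ (P : Subgroup G) →
      ControlsStrongFusionOf (normalizer (inducedFunctor W D : Set G)) (P : Subgroup G) A := by
  have hWk := Cfsg.Agent.Lib.Helper9.isCharPFunctor_kInfLower.{u} p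
  set U := inducedFunctor kInfLower (P : Subgroup G) with hU
  have hUP : U ≤ (P : Subgroup G) := inducedFunctor_le _
  have hPN : (P : Subgroup G) ≤ normalizer (U : Set G) :=
    le_normalizer.trans (normalizer_le_normalizer_inducedFunctor hWk _ P.2)
  have hCU : centralizer (U : Set G) ⊓ (P : Subgroup G) ≤ U := by
    intro x hx
    obtain ⟨hxC, hxP⟩ := mem_inf.1 hx
    have h1 := (Cfsg.Agent.S1978.result (P := ↥(P : Subgroup G)) P.2).1
    refine ⟨⟨x, hxP⟩, h1 ?_, rfl⟩
    rw [mem_centralizer_iff]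
    intro u hu
    apply Subtype.ext
    exact mem_centralizer_iff.1 hxC (u : G) ⟨u, hu, rfl⟩
  set H := normalizer (U : Set G) with hH
  have hcH : IsPConstrained p H := isPConstrained_normalizer_of_centric P U hUP hPN hCU
  have hstH : IsNormalizerPStable p H :=
    Cfsg.Agent.Lib.Helper9.isNormalizerPStable_of_involves hst
      (Cfsg.Agent.Lib.Helper33.involves_subgroup H (Cfsg.Agent.Lib.Helper33.involves_self ↥H))
  have hctl := controls_normalizer_of_controlsStrongFusion P U hUP (Cfsg.Agent.S1987.result hp hst P)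
  intro A hA
  refine ⟨hA, ?_⟩
  intro g hg
  obtain ⟨h, hh, hha⟩ := (hctl A hA).2 g hg
  have hidx : ¬ p ∣ ((P : Subgroup G).subgroupOf H).index := by
    intro hdvd
    apply P.not_dvd_index
    have h1 := relIndex_mul_index hPN
    rw [← h1]
    exact Dvd.dvd.mul_right hdvd _
  have hPp : IsPGroup p ((P : Subgroup G).subgroupOf H) := P.2.comap_of_injective _ H.subtype_injective
  set RL : Sylow p H := hPp.toSylow hidx with hRL
  set EL : Subgroup H := D.subgroupOf H with hEL
  have hsc : IsStronglyClosed EL (RL : Subgroup H) := stronglyClosed_comap H.subtype hD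
  have hELp : IsPGroup p EL := RL.2.to_le hsc.1
  have hfac := pPrimeCore_sup_normalizer_inducedFunctor W hW hfin H hstH hcH RL EL hsc
  have hRN : (RL : Subgroup H) ≤ normalizer (inducedFunctor W EL : Set H) :=
    (stronglyClosed_le_normalizer hsc).trans (normalizer_le_normalizer_inducedFunctor hW EL hELp)
  obtain ⟨x, hx, hxa⟩ := controls_of_factorization (pPrimeCore p H) (normalizer (inducedFunctor W EL : Set H))
    (card_pPrimeCore_coprime p) hfac (RL : Subgroup H) RL.2 hRN (Subtype.val ⁻¹' A) ⟨h, hh⟩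
    (fun a ha => mem_subgroupOf.2 (hA ha))
    (fun a ha => mem_subgroupOf.2 (by
      have : g * (a : G) * g⁻¹ ∈ (P : Subgroup G) := hg ⟨(a : G), ha, rfl⟩
      rw [hha _ ha] at this
      exact this))
  refine ⟨x, ?_, ?_⟩
  · have hWv : inducedFunctor W D = (inducedFunctor W EL).map H.subtype := by
      rw [← inducedFunctor_map hW H.subtype EL hELp (fun y _ hy => Subtype.ext hy), hEL,
        subgroupOf_map_subtype, inf_eq_left.2 (hD.1.trans hPN)]
    rw [hWv]
    exact le_normalizer_map H.subtype (mem_map_of_mem H.subtype hx)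
  · intro a ha
    rw [hha a ha]
    exact (congrArg Subtype.val (hxa ⟨a, hPN (hA ha)⟩ ha)).symm

end Cfsg.Agent.Lib.Helper51
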